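import Cfsg.Agent.H88.CD3Solv
import Cfsg.Agent.H44.Cores

/-!
# The Broline–Garrison theorem (Isaacs 12.19)
-/

set_option autoImplicit false

open scoped ComplexConjugate commutatorElement
open Cfsg Cfsg.Agent.H5 Cfsg.Agent.H6

namespace Cfsg.Agent.H88

variable {G : Type*} [Group G] [Finite G]

theorem frattini_of_relIndex {q : ℕ} [Fact q.Prime] {Q D : Subgroup G} [D.Normal] (hQD : Q ≤ D)
    (hQ : IsPGroup q Q) (h : ¬ q ∣ Q.relIndex D) :
    Subgroup.normalizer (Q : Set G) ⊔ D = ⊤ := by
  have h1 := Sylow.normalizer_sup_eq_top ((hQ.comap_subtype (K := D)).toSylow h)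
  change Subgroup.normalizer ((Q.comap D.subtype).map D.subtype : Set G) ⊔ D = ⊤ at h1
  rwa [Subgroup.map_comap_eq, Subgroup.range_subtype, inf_eq_right.mpr hQD] at h1

theorem isIrr_restrict_of_sup_eq_top {χ : G → ℂ} (hχ : IsIrrCharacter G χ) (L H : Subgroup G)
    [L.Normal] (hL : ∀ g ∈ L, χ g = χ 1) (h : L ⊔ H = ⊤) : IsIrrCharacter H fun x : H => χ x := by
  obtain ⟨φ, hφ, rfl⟩ := exists_isIrr_quotient L hχ hL
  refine isIrrCharacter_comp hφ ((QuotientGroup.mk' L).comp H.subtype) fun x => ?_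
  obtain ⟨g, rfl⟩ := QuotientGroup.mk_surjective x
  have hg : g ∈ ((H ⊔ L : Subgroup G) : Set G) := by rw [sup_comm, h]; trivial
  rw [Subgroup.mul_normal] at hg
  obtain ⟨a, ha, b, hb, rfl⟩ := hg
  exact ⟨⟨a, ha⟩, (QuotientGroup.mk_mul_of_mem a hb).symm⟩

theorem garrison_aux {χ : G → ℂ} (hχ : IsIrrCharacter G χ) {H : Subgroup G} (hH : IsCoatom H)
    (hKH : charKer (isCharacter_of_isIrr hχ) ⊔ H = ⊤) :
    (∃ (ψ : G → ℂ) (hψ : IsIrrCharacter G ψ), charDegree χ < charDegree ψ ∧
      charKer (isCharacter_of_isIrr hψ) < charKer (isCharacter_of_isIrr hχ)) ∨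
      ∀ h ∈ H, χ h ≠ 0 → h ∈ H.normalCore := by
  have := Fintype.ofFinite G
  have := Fintype.ofFinite H
  have hθ := isIrr_restrict_of_sup_eq_top hχ _ H (fun _ hg => hg) hKH
  rw [or_iff_not_imp_left]
  intro hc h hh h0
  push Not at hc
  have h1 : ∀ ψ, IsIrrCharacter G ψ → classInner (indFun H fun x : H => χ x) ψ ≠ 0 →
      (fun x : H => ψ x) = fun x : H => χ x := fun ψ hψ hne => by
    rw [classInner_indFun_ne_zero_iff H _ (isClassFunction_of_isIrr hψ)] at hne
    by_cases hL : charKer (isCharacter_of_isIrr hψ) ≤ H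
    · refine restrict_eq_of_degree_le H (isCharacter_of_isIrr hψ) hθ hne (not_lt.mp fun hlt => ?_)
      refine hc ψ hψ hlt (lt_of_le_of_ne (fun x hx => ?_) fun e => hH.1 ?_)
      · exact apply_eq_degree_of_constituent (isCharacter_restrict (isCharacter_of_isIrr hψ) H) hθ
          hne (g := ⟨x, hL hx⟩) hx
      · rw [← hKH, ← e, sup_eq_right.mpr hL]
    · exact eq_of_classInner_irr_ne_zero (isIrr_restrict_of_sup_eq_top hψ _ H (fun _ hg => hg)
        (hH.2 _ (right_lt_sup.mpr hL))) hθ hne
  have h2 := apply_eq_of_forall_constituent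
    (isCharacter_indFun H (isCharacter_of_isIrr hθ)) (g := h) (c := χ h) (d := χ 1)
    fun ψ hψ hne => by
      rw [show ψ h = χ h from congrFun (h1 ψ hψ hne) ⟨h, hh⟩,
        show ψ 1 = χ 1 from congrFun (h1 ψ hψ hne) 1, mul_comm]
  rw [indFun_res H (isClassFunction_of_isIrr hχ)] at h2
  have h3 : indFun H (fun _ => 1) h = indFun H (fun _ => 1) 1 := by
    simp only [Pi.mul_apply] at h2
    apply mul_left_cancel₀ (mul_ne_zero (degree_ne_zero hχ) h0)
    linear_combination h2
  intro b
  simpa using mem_of_indFun_one_eq_degree H h3 b⁻¹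

theorem garrison {χ : G → ℂ} (hχ : IsIrrCharacter G χ)
    (h : ¬ charKer (isCharacter_of_isIrr hχ) ≤ fittingSubgroup G ∨
      (charKer (isCharacter_of_isIrr hχ) = fittingSubgroup G ∧
        Group.IsSolvable (G ⧸ charKer (isCharacter_of_isIrr hχ)) ∧
        charKer (isCharacter_of_isIrr hχ) ≠ ⊤)) :
    ∃ (ψ : G → ℂ) (hψ : IsIrrCharacter G ψ), charDegree χ < charDegree ψ ∧
      charKer (isCharacter_of_isIrr hψ) < charKer (isCharacter_of_isIrr hχ) := by
  set K := charKer (isCharacter_of_isIrr hχ) with hK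
  have hK0 : ∀ x ∈ K, χ x ≠ 0 := fun x hx => by
    rw [show χ x = χ 1 from hx]; exact degree_ne_zero hχ
  rcases h with h | ⟨hF, hs, hK1⟩
  · have h1 : ¬ Group.IsNilpotent K := fun e => h (H44.le_fitting inferInstance e)
    have h0 : Group.IsNilpotent K ↔
        ∀ (p : ℕ) (_ : Fact p.Prime) (P : Sylow p K), (P : Subgroup K).Normal :=
      (isNilpotent_of_finite_tfae (G := K)).out 0 3
    rw [h0] at h1
    push Not at h1
    obtain ⟨q, hq, P, hP⟩ := h1
    have hN : Subgroup.normalizer ((P : Subgroup K).map K.subtype : Set G) ≠ ⊤ := fun e => hP (by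
      have := (Subgroup.normalizer_eq_top_iff.mp e).comap K.subtype
      rwa [Subgroup.comap_map_eq_self_of_injective K.subtype_injective] at this)
    obtain ⟨H, hH, hNH⟩ := (eq_top_or_exists_le_coatom _).resolve_left hN
    refine (garrison_aux hχ hH ?_).resolve_right fun hc => hH.1 ?_
    · rw [eq_top_iff, ← P.normalizer_sup_eq_top, sup_comm]
      exact sup_le_sup_left hNH _
    · have hPK := Subgroup.map_subtype_le (P : Subgroup K)
      have h1 : (P : Subgroup K).map K.subtype ≤ H.normalCore ⊓ K := fun x hx =>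
        ⟨hc x (hNH (Subgroup.le_normalizer hx)) (hK0 x (hPK hx)), hPK hx⟩
      rw [eq_top_iff, ← frattini_of_relIndex h1 (P.isPGroup'.map _) fun hd => P.not_dvd_index ?_]
      · exact sup_le hNH (inf_le_left.trans H.normalCore_le)
      · refine hd.trans ((Dvd.intro _ (Subgroup.relIndex_mul_relIndex _ _ _ h1 inf_le_right)).trans
          (dvd_of_eq ?_))
        rw [Subgroup.relIndex, Subgroup.subgroupOf,
          Subgroup.comap_map_eq_self_of_injective K.subtype_injective]
  · have : Nontrivial (G ⧸ K) := QuotientGroup.nontrivial_iff.mpr hK1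
    have hs' := QuotientGroup.mk'_surjective K
    obtain ⟨V, q, hq, hV, hV1, -, hVq, -, hmin⟩ := H2.exists_minimal_normal_of_solvable (G := G ⧸ K)
    have := Fact.mk hq
    obtain ⟨S⟩ : Nonempty (Sylow q G) := inferInstance
    let L := V.comap (QuotientGroup.mk' K)
    have hKL : K ≤ L := QuotientGroup.le_comap_mk' K V
    have hLK : ¬ L ≤ K := fun e => hV1 (by
      rw [← Subgroup.map_comap_eq_self_of_surjective hs' V, Subgroup.map_eq_bot_iff,
        QuotientGroup.ker_mk']
      exact e)
    let Q := (S : Subgroup G) ⊓ L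
    have hQ : IsPGroup q Q := S.isPGroup'.to_inf_left
    have hQL : ¬ q ∣ Q.relIndex L := by
      rw [Subgroup.inf_relIndex_right]; exact H3.not_dvd_relIndex_sylow_of_normal S L
    have hL : L ≤ Q ⊔ K := fun x hx => by
      obtain ⟨s, hs, e⟩ := hVq.le_sylow_of_normal (S.mapSurjective hs') hx
      have h1 : s⁻¹ * x ∈ K := QuotientGroup.eq.mp e
      rw [← mul_inv_cancel_left s x]
      exact mul_mem (Subgroup.mem_sup_left ⟨hs, show QuotientGroup.mk' K s ∈ V from e ▸ hx⟩)
        (Subgroup.mem_sup_right h1)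
    have hN : Subgroup.normalizer (Q : Set G) ≠ ⊤ := fun e => hLK (hL.trans (sup_le
      ((H44.le_fitting (Subgroup.normalizer_eq_top_iff.mp e) hQ.isNilpotent).trans hF.ge) le_rfl))
    obtain ⟨H, hH, hNH⟩ := (eq_top_or_exists_le_coatom _).resolve_left hN
    have hQH : Q ≤ H := Subgroup.le_normalizer.trans hNH
    refine (garrison_aux hχ hH ?_).resolve_right fun hc => ?_
    · rw [eq_top_iff, ← frattini_of_relIndex inf_le_right hQ hQL]
      exact sup_le (hNH.trans le_sup_right) (hL.trans (sup_le (hQH.trans le_sup_right) le_sup_left))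
    let D := H.normalCore ⊓ L
    rcases hmin (D.map (QuotientGroup.mk' K)) (Subgroup.Normal.map inferInstance _ hs')
      (Subgroup.map_le_iff_le_comap.mpr inf_le_right) with h1 | h1
    · rw [Subgroup.map_eq_bot_iff, QuotientGroup.ker_mk'] at h1
      have h2 : ∀ x ∈ L, x ∉ K → χ x = 0 := fun x hx hxK => by
        have h3 : x ∈ ((Q ⊔ K : Subgroup G) : Set G) := hL hx
        rw [Subgroup.mul_normal] at h3
        obtain ⟨a, ha, b, hb, rfl⟩ := h3
        by_contra h0
        rw [apply_mul_of_apply_eq_degree' (isCharacter_of_isIrr hχ) hb] at h0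
        exact hxK (K.mul_mem (h1 ⟨hc a (hQH ha) h0, ha.2⟩) hb)
      classical
      have := Fintype.ofFinite L
      refine hLK fun x hx => apply_eq_degree_of_sum_ne_zero hχ L ?_ hx
      rw [← Finset.sum_filter_add_sum_filter_not _ (fun x : L => (x : G) ∈ K),
        Finset.sum_eq_zero (s := Finset.univ.filter fun x : L => ¬ (x : G) ∈ K)
          fun x hx => h2 x x.2 (Finset.mem_filter.mp hx).2, add_zero,
        Finset.sum_congr (s₁ := Finset.univ.filter fun x : L => (x : G) ∈ K) rfl
          (f := fun x : L => χ x) (g := fun _ => χ 1)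
          fun x hx => (show χ x = χ 1 from (Finset.mem_filter.mp hx).2),
        Finset.sum_const, nsmul_eq_mul]
      exact mul_ne_zero (Nat.cast_ne_zero.mpr (Finset.card_ne_zero.mpr
        ⟨1, Finset.mem_filter.mpr ⟨Finset.mem_univ _, K.one_mem⟩⟩)) (degree_ne_zero hχ)
    · have h2 : D ⊔ K = L := by
        have := congrArg (Subgroup.comap (QuotientGroup.mk' K)) h1
        rwa [Subgroup.comap_map_eq, QuotientGroup.ker_mk'] at this
      have h3 : ¬ q ∣ D.relIndex L := fun hd => by
        rw [← h2, Subgroup.relIndex_sup_left, ← Subgroup.inf_relIndex_right,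
          show D ⊓ K = H ⊓ K from le_antisymm
            (inf_le_inf_right _ (inf_le_left.trans H.normalCore_le))
            fun x hx => ⟨⟨hc x hx.1 (hK0 x hx.2), hKL hx.2⟩, hx.2⟩,
          Subgroup.inf_relIndex_right] at hd
        refine S.not_dvd_index ((hd.trans (H3.relIndex_dvd_index_of_normal_right H K)).trans
          (Subgroup.index_dvd_of_le (le_trans (fun s hs => ?_) hNH)))
        exact Subgroup.inf_normalizer_le_normalizer_inf
          ⟨Subgroup.le_normalizer hs, (Subgroup.normalizer_eq_top L).ge (Subgroup.mem_top s)⟩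
      have h4 : Q ≤ D := by
        obtain ⟨n, hn⟩ := hQ.exists_card_eq
        rw [← Subgroup.relIndex_eq_one]
        exact Nat.eq_one_of_dvd_coprimes (((Nat.Prime.coprime_iff_not_dvd hq).mpr h3).pow_left n)
          (hn ▸ Subgroup.relIndex_dvd_card _ _)
          (H22.relIndex_dvd_of_le_right_of_normal D inf_le_right)
      refine hH.1 ?_
      rw [eq_top_iff, ← frattini_of_relIndex h4 hQ fun hd => hQL (hd.trans
        (Dvd.intro _ (Subgroup.relIndex_mul_relIndex _ _ _ h4 inf_le_right)))]
      exact sup_le hNH (inf_le_left.trans H.normalCore_le)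

end Cfsg.Agent.H88
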