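import Cfsg.Agent.H88.Eig
import Cfsg.Agent.H33.Kernel

/-!
# More degree facts
-/

set_option autoImplicit false

open scoped ComplexConjugate commutatorElement
open Cfsg Cfsg.Agent.H5 Cfsg.Agent.H6

namespace Cfsg.Agent.H88

variable {G : Type*} [Group G] [Finite G] {χ : G → ℂ}

theorem sum_normSq_eq_card [Fintype G] (h : IsIrrCharacter G χ) :
    ∑ g, ‖χ g‖ ^ 2 = Nat.card G := by
  have h1 := classInner_irr_self h
  rw [classInner_self_eq] at h1
  have h2 : (Nat.card G : ℝ)⁻¹ * ∑ g, ‖χ g‖ ^ 2 = 1 := by exact_mod_cast h1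
  rwa [inv_mul_eq_one₀ (Nat.cast_ne_zero.mpr Nat.card_pos.ne'), eq_comm] at h2

theorem charDegree_sq_le_index (h : IsIrrCharacter G χ) (Z : Subgroup G)
    (hZ : ∀ z ∈ Z, ‖χ z‖ = ‖χ 1‖) : charDegree χ ^ 2 ≤ Z.index := by
  classical
  have := Fintype.ofFinite G
  have h1 : ∑ g ∈ Finset.univ.filter (· ∈ Z), ‖χ g‖ ^ 2 ≤ Nat.card G :=
    (Finset.sum_le_sum_of_subset_of_nonneg (Finset.filter_subset _ _)
      fun _ _ _ => sq_nonneg _).trans (sum_normSq_eq_card h).le
  rw [Finset.sum_congr rfl (g := fun _ => (charDegree χ : ℝ) ^ 2) fun g hg => by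
    rw [hZ g (Finset.mem_filter.mp hg).2, norm_degree (isCharacter_of_isIrr h)],
    Finset.sum_const, ← Fintype.card_subtype, ← Nat.card_eq_fintype_card, nsmul_eq_mul,
    ← Z.card_mul_index] at h1
  exact Nat.le_of_mul_le_mul_left (by exact_mod_cast h1) (Nat.card_pos (α := Z))

theorem charDegree_sq_le_index_center (h : IsIrrCharacter G χ) :
    charDegree χ ^ 2 ≤ (Subgroup.center G).index :=
  charDegree_sq_le_index h _ fun _ hz => norm_apply_of_mem_center h hz

theorem sum_nonlinear : (commutator G).index + ∑ χ ∈ Finset.univ.filter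
    (fun χ : IrrCharacter G => charDegree (χ : G → ℂ) ≠ 1), charDegree (χ : G → ℂ) ^ 2 =
      Nat.card G := by
  classical
  have h1 := H33.sum_degree_sq_of_le_ker (commutator G)
  rw [Finset.filter_congr fun χ _ => commutator_le_charKer_iff χ.2] at h1
  simp only [← irr_charDegree_cast] at h1
  rw [← sum_charDegree_sq, ← Finset.sum_filter_add_sum_filter_not Finset.univ
    fun χ : IrrCharacter G => charDegree (χ : G → ℂ) = 1, add_left_inj]
  exact_mod_cast h1.symm

theorem exists_monoidHom_ne_one (h : commutator G ≠ ⊤) : ∃ lam : G →* ℂˣ, lam ≠ 1 := by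
  have : Nontrivial (G →* ℂˣ) := Finite.one_lt_card_iff_nontrivial.mp (by
    rw [card_monoidHom_eq_index_commutator]
    exact Subgroup.one_lt_index_of_ne_top h)
  exact exists_ne _

theorem hom_eq_one_of_pow_coprime {lam : G →* ℂˣ} {n : ℕ} (h : ∀ g, lam g ^ n = 1)
    (hn : n.Coprime (Nat.card G)) : lam = 1 := MonoidHom.ext fun g => by
  have h1 := pow_gcd_eq_one.mpr ⟨h g, show lam g ^ Nat.card G = 1 by
    rw [← map_pow, pow_card_eq_one', map_one]⟩
  rwa [hn, pow_one] at h1

theorem mem_center_of_norm_eq (h : IsCharacter G χ) (hf : ∀ g, χ g = χ 1 → g = 1) {z : G}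
    (hz : ‖χ z‖ = ‖χ 1‖) : z ∈ Subgroup.center G := Subgroup.mem_center_iff.mpr fun g => by
  have := hf _ (apply_commutator_of_norm_eq h hz g)
  rw [mul_inv_eq_one, mul_inv_eq_iff_eq_mul] at this
  exact this.symm

end Cfsg.Agent.H88
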