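import Cfsg.Agent.H88.CD3Solv
import Cfsg.Agent.H88.PLocal

/-!
# Eigenvalues with determinant; multiplicities
-/

set_option autoImplicit false

open scoped ComplexConjugate
open Cfsg Cfsg.Agent.H5 Cfsg.Agent.H6 Cfsg.Agent.H32

namespace Cfsg.Agent.H88

variable {G : Type*} [Group G] [Finite G] {χ : G → ℂ}

theorem exists_eigenvalues_det (h : IsCharacter G χ) : ∃ lam : G →* ℂˣ, ∀ g : G,
    ∃ μ : Fin (charDegree χ) → ℂ, (∀ i, μ i ^ orderOf g = 1) ∧
      (∀ n : ℕ, χ (g ^ n) = ∑ i, μ i ^ n) ∧ ∏ i, μ i = lam g := by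
  classical
  obtain ⟨n, ρ, rfl⟩ := h
  refine ⟨H30.detHom ρ, fun g => ?_⟩
  rw [charDegree_character]
  obtain ⟨b, μ, h1, h2⟩ := exists_eigenbasis ρ g
  refine ⟨μ, h1, fun n => trace_eq_sum_of_eigenbasis _ b _ fun i => by
    simpa using h2 n i, ?_⟩
  rw [H30.coe_detHom, ← LinearMap.det_toMatrix b, ← Matrix.det_diagonal]
  congr 1
  ext i j
  have := h2 1 j
  simp only [zpow_one] at this
  rw [LinearMap.toMatrix_apply, this, Matrix.diagonal_apply]
  split_ifs with e
  · simp [e]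
  · simp [Finsupp.single_apply, Ne.symm e]

theorem monoidHom_eq_one_of_mem_commutator (lam : G →* ℂˣ) {g : G} (hg : g ∈ commutator G) :
    lam g = 1 := Abelianization.commutator_subset_ker lam hg

omit [Finite G] in
theorem sum_pow_mul_inv_pow {ι : Type*} [Fintype ι] [DecidableEq ℂ] {q : ℕ} (hq : q ≠ 0)
    (μ : ι → ℂ) (hμ : ∀ i, μ i ^ q = 1) {ω : ℂ} (hω : ω ^ q = 1) :
    ∑ n ∈ Finset.range q, (∑ i, μ i ^ n) * ω⁻¹ ^ n =
      q * (Finset.univ.filter fun i => μ i = ω).card := by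
  have h0 : ω ≠ 0 := fun e => by simp [e, hq] at hω
  simp only [Finset.sum_mul, ← mul_pow]
  rw [Finset.sum_comm, Finset.card_filter, Nat.cast_sum, Finset.mul_sum]
  refine Finset.sum_congr rfl fun i _ => ?_
  split_ifs with e
  · simp [e, h0]
  · have h1 := mul_geom_sum (μ i * ω⁻¹) q
    rw [mul_pow, hμ, inv_pow, hω, inv_one, mul_one, sub_self] at h1
    rw [(mul_eq_zero.mp h1).resolve_left fun h2 => e (by
      rwa [sub_eq_zero, mul_inv_eq_one₀ h0] at h2)]
    simp

/-- an involution in the commutator subgroup: `χ(1) - χ(t)` is divisible by `4`. -/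
theorem exists_degree_sub_eq_four_mul (h : IsCharacter G χ) {t : G} (ht : t * t = 1)
    (hc : t ∈ commutator G) : ∃ m : ℕ, χ t = χ 1 - 4 * m ∧ 2 * m ≤ charDegree χ := by
  classical
  obtain ⟨lam, hl⟩ := exists_eigenvalues_det h
  obtain ⟨μ, h1, h2, h3⟩ := hl t
  have h4 : ∀ i, μ i = if μ i = 1 then 1 else -1 := fun i => by
    obtain ⟨k, hk⟩ := orderOf_dvd_of_pow_eq_one (show t ^ 2 = 1 by rw [sq, ht])
    have h5 : μ i ^ 2 = 1 := by rw [hk, pow_mul, h1, one_pow]
    split_ifs with e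
    · exact e
    · exact (sq_eq_one_iff.mp h5).resolve_left e
  rw [monoidHom_eq_one_of_mem_commutator lam hc, Finset.prod_congr rfl fun i _ => h4 i,
    Finset.prod_ite, Finset.prod_const_one, one_mul, Finset.prod_const, Units.val_one,
    neg_one_pow_eq_one_iff_even (by norm_num)] at h3
  obtain ⟨m, hm⟩ := h3
  have h5 := Finset.card_filter_add_card_filter_not (s := Finset.univ) (fun i => μ i = 1)
  rw [hm, Finset.card_univ, Fintype.card_fin] at h5
  refine ⟨m, ?_, by omega⟩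
  have h6 := h2 1
  simp only [pow_one] at h6
  rw [h6, Finset.sum_congr rfl fun i _ => h4 i, Finset.sum_ite, Finset.sum_const, Finset.sum_const,
    hm, ← charDegree_cast h]
  have h7 := congrArg (Nat.cast : ℕ → ℂ) h5
  simp only [nsmul_eq_mul]
  push_cast at h7 ⊢
  linear_combination h7

end Cfsg.Agent.H88
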