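import Cfsg.Agent.H88.CD3Solv

/-!
# Groups with two character degrees (Isaacs 12.5, 12.6)
-/

set_option autoImplicit false

open scoped ComplexConjugate commutatorElement
open Cfsg Cfsg.Agent.H5 Cfsg.Agent.H6

namespace Cfsg.Agent.H88

variable {G : Type*} [Group G]

/-- The stabilizer of a linear character of a normal subgroup. -/
def stab (A : Subgroup G) [A.Normal] (μ : A →* ℂˣ) : Subgroup G :=
  inertia A fun n => (μ n : ℂ)

theorem mem_stab {A : Subgroup G} [A.Normal] {μ : A →* ℂˣ} {g : G} :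
    g ∈ stab A μ ↔ ∀ n : A, μ (MulAut.conjNormal g n) = μ n := by
  rw [stab, mem_inertia_iff]
  exact forall_congr' fun n => Units.ext_iff.symm

theorem le_stab (A : Subgroup G) [A.Normal] (μ : A →* ℂˣ) : A ≤ stab A μ :=
  le_inertia A (isClassFunction_of_isIrr (isIrrCharacter_monoidHom μ))

theorem eq_of_le_of_index_le [Finite G] {H K : Subgroup G} (h : H ≤ K) (hi : H.index ≤ K.index) :
    H = K := by
  by_contra hne
  have := Subgroup.index_strictAnti (lt_of_le_of_ne h hne)
  omega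

theorem stab_eq_stab [Finite G] (A : Subgroup G) [A.Normal] {p : ℕ}
    (hA : (Nat.card A).Coprime p) (hQ : ∀ g : G, ∃ j, g ^ p ^ j ∈ A) {m : ℕ}
    (h : ∀ μ, stab A μ ≠ ⊤ → (stab A μ).index = m ∧ (stab A μ).Normal) {lam μ : A →* ℂˣ}
    (hl : stab A lam ≠ ⊤) (hμ : stab A μ ≠ ⊤) : stab A lam = stab A μ := by
  by_contra hne
  have h1 : ∀ (ν : A →* ℂˣ) (t : G), (stab A ν).Normal →
      stab A ν ≤ stab A (ν.comp (MulAut.conjNormal t : MulAut A) / ν) := fun ν t hν s hs => by
    rw [mem_stab]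
    intro n
    have e1 := mem_stab.mp (hν.conj_mem s hs t) (MulAut.conjNormal t n)
    have e2 : MulAut.conjNormal (t * s * t⁻¹) (MulAut.conjNormal t n) =
        MulAut.conjNormal t (MulAut.conjNormal s n) := Subtype.ext (by simp [mul_assoc])
    rw [e2] at e1
    simp only [MonoidHom.div_apply, MonoidHom.comp_apply, MonoidHom.coe_coe]
    rw [e1, mem_stab.mp hs]
  have h2 : ∀ {a b : A →* ℂˣ}, stab A a ≠ ⊤ → stab A b ≠ ⊤ → stab A a ≠ stab A b →
      stab A (a * b) ≤ stab A a := by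
    intro a b ha hb hab t ht
    let κ := a.comp (MulAut.conjNormal t : MulAut A) / a
    have e1 : ∀ n, κ n = (b (MulAut.conjNormal t n) / b n)⁻¹ := fun n => by
      have := mem_stab.mp ht n
      simp only [MonoidHom.mul_apply] at this
      simp only [κ, MonoidHom.div_apply, MonoidHom.comp_apply, MonoidHom.coe_coe, inv_div]
      rw [div_eq_div_iff_mul_eq_mul, this, mul_comm]
    have e2 : stab A κ = ⊤ := by
      by_contra hc
      have f1 := eq_of_le_of_index_le (h1 a t (h a ha).2) (by rw [(h a ha).1, (h κ hc).1])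
      have f2 : stab A b ≤ stab A κ := fun s hs => mem_stab.mpr fun n => by
        rw [e1, e1]
        exact congrArg _ (mem_stab.mp (h1 b t (h b hb).2 hs) n)
      exact hab (f1.trans (eq_of_le_of_index_le f2 (by rw [(h b hb).1, (h κ hc).1])).symm)
    have e3 : ∀ (k : ℕ) n, a (MulAut.conjNormal (t ^ k) n) = κ n ^ k * a n := fun k => by
      induction k with
      | zero => simp
      | succ k ih =>
        intro n
        have f1 : κ (MulAut.conjNormal t n) = κ n := mem_stab.mp (e2 ▸ Subgroup.mem_top t) n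
        have f2 : a (MulAut.conjNormal t n) = κ n * a n := by simp [κ]
        rw [pow_succ, map_mul, MulAut.mul_apply, ih, f1, f2, pow_succ, mul_assoc]
    obtain ⟨j, hj⟩ := hQ t
    rw [mem_stab]
    intro n
    have f1 := e3 (p ^ j) n
    rw [mem_stab.mp (le_stab A a hj), eq_comm, mul_eq_right] at f1
    have f2 : κ n ^ Nat.card A = 1 := by rw [← map_pow, pow_card_eq_one', map_one]
    have f3 := (pow_gcd_eq_one (a := κ n)).mpr ⟨f2, f1⟩
    rw [hA.pow_right j, pow_one] at f3
    exact div_eq_one.mp f3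
  have h3 : stab A (lam * μ) ≠ ⊤ := fun e => hl (top_le_iff.mp (e ▸ h2 hl hμ hne))
  have h4 := eq_of_le_of_index_le (h2 hl hμ hne) (by rw [(h _ h3).1, (h _ hl).1])
  have hc : μ * lam = lam * μ := MonoidHom.ext fun n => mul_comm (μ n) (lam n)
  have h5 := eq_of_le_of_index_le (h2 hμ hl (Ne.symm hne)) (by
    rw [hc, (h _ h3).1, (h _ hμ).1])
  exact hne (by rw [← h4, ← h5, hc])

theorem mem_centralizer_of_forall_stab [Finite G] (A : Subgroup G) [hA : A.Normal]
    (hab : ∀ a ∈ A, ∀ b ∈ A, a * b = b * a) {t : G} (h : ∀ μ, t ∈ stab A μ) :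
    t ∈ Subgroup.centralizer (A : Set G) := by
  intro a ha
  have h1 : MulAut.conjNormal t (⟨a, ha⟩ : A) * (⟨a, ha⟩ : A)⁻¹ = 1 :=
    eq_one_of_forall_irr fun χ hχ => by
      obtain ⟨μ, rfl⟩ := exists_monoidHom_of_comm (subgroup_comm hab) hχ
      simp [mem_stab.mp (h μ)]
  have h2 := congrArg Subtype.val (mul_inv_eq_one.mp h1)
  rw [MulAut.conjNormal_apply, mul_inv_eq_iff_eq_mul] at h2
  exact h2.symm

theorem comm_of_normal_of_coprime [Finite G] (A : Subgroup G) [A.Normal]
    (h : ∀ χ : G → ℂ, IsIrrCharacter G χ → (charDegree χ).Coprime (Nat.card A)) :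
    ∀ a ∈ A, ∀ b ∈ A, a * b = b * a := fun a ha b hb => by
  refine congrArg Subtype.val (comm_of_forall_charDegree_eq_one (G := A) (fun θ hθ => ?_)
    ⟨a, ha⟩ ⟨b, hb⟩)
  obtain ⟨χ, hχ, hd⟩ := exists_charDegree_dvd_of_normal A hθ
  exact Nat.eq_one_of_dvd_coprimes (h χ hχ) hd (charDegree_dvd_card hθ)

theorem exists_irr_degree_eq_index_of_fpf [Finite G] (V : Subgroup G) [V.Normal] (hV1 : V ≠ ⊥)
    (hab : ∀ a ∈ V, ∀ b ∈ V, a * b = b * a)
    (hC : ∀ g, g ∉ V → ∀ k ∈ V, g * k = k * g → k = 1) :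
    ∃ χ : G → ℂ, IsIrrCharacter G χ ∧ charDegree χ = V.index := by
  have := Fintype.ofFinite G
  have := (Subgroup.nontrivial_iff_ne_bot V).mpr hV1
  obtain ⟨θ, hθ, h1⟩ := exists_irr_ne_one (G := V)
  refine ⟨_, isIrr_indFun_of_centralizer_le V hC hθ h1, ?_⟩
  rw [charDegree_indFun V (isCharacter_of_isIrr hθ),
    charDegree_eq_one_of_comm (subgroup_comm hab) hθ, mul_one]

theorem commutator_ne_bot_of_degree {χ : G → ℂ} (hχ : IsIrrCharacter G χ) (h : charDegree χ ≠ 1) :
    commutator G ≠ ⊥ := fun e => h (charDegree_eq_one_of_comm (commutator_eq_bot_iff_comm.mp e) hχ)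

theorem exists_irr_ne_one_of_commutator_ne_bot [Finite G] (h : commutator G ≠ ⊥) :
    ∃ χ : G → ℂ, IsIrrCharacter G χ ∧ charDegree χ ≠ 1 := by
  refine exists_irr_charDegree_ne_one ?_
  by_contra hc
  push Not at hc
  exact h (commutator_eq_bot_iff_comm.mpr hc)

theorem comm_sup_center {B : Subgroup G} (hB : ∀ a ∈ B, ∀ b ∈ B, a * b = b * a) :
    ∀ a ∈ B ⊔ Subgroup.center G, ∀ b ∈ B ⊔ Subgroup.center G, a * b = b * a := by
  intro a ha b hb
  rw [← SetLike.mem_coe, Subgroup.mul_normal] at ha hb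
  obtain ⟨x, hx, z, hz, rfl⟩ := ha
  obtain ⟨y, hy, w, hw, rfl⟩ := hb
  have h1 := Subgroup.mem_center_iff.mp hz
  have h2 := Subgroup.mem_center_iff.mp hw
  calc x * z * (y * w) = x * y * (z * w) := by rw [mul_assoc, ← mul_assoc z, ← h1 y]; group
    _ = y * x * (w * z) := by rw [hB x hx y hy, h1 w]
    _ = y * w * (x * z) := by rw [mul_assoc, ← mul_assoc x, h2 x]; group

/-- Isaacs 12.5. -/
theorem two_degrees [Finite G] {m : ℕ}
    (hcd : ∀ χ : G → ℂ, IsIrrCharacter G χ → charDegree χ = 1 ∨ charDegree χ = m)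
    (hG : commutator G ≠ ⊥) :
    (∃ A : Subgroup G, A.Normal ∧ (∀ a ∈ A, ∀ b ∈ A, a * b = b * a) ∧ A.index = m) ∨
      ∃ p e : ℕ, p.Prime ∧ m = p ^ e ∧ ∃ P A : Subgroup G, P.Normal ∧ A.Normal ∧ IsPGroup p P ∧
        A ≤ Subgroup.center G ∧ (Nat.card A).Coprime p ∧ P ⊓ A = ⊥ ∧ P ⊔ A = ⊤ := by
  classical
  have := Fintype.ofFinite G
  have : Group.IsSolvable G := isSolvable_of_three_degrees (m := m) (n := m) fun χ hχ => by
    have := hcd χ hχ; tauto
  obtain ⟨K, hK, hQ⟩ := exists_minNA_quotient hG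
  have hs := QuotientGroup.mk'_surjective K
  have hcdQ : ∀ φ, IsIrrCharacter (G ⧸ K) φ → charDegree φ = 1 ∨ charDegree φ = m :=
    fun φ hφ => hcd _ (isIrrCharacter_inflate K hφ)
  obtain ⟨φ, hφ, hφ1⟩ := exists_irr_ne_one_of_commutator_ne_bot hQ.1
  have hφm := (hcdQ φ hφ).resolve_left hφ1
  have hm1 : m ≠ 1 := hφm ▸ hφ1
  obtain ⟨p, hp, hpow, hab, ⟨hP, hZ⟩ | ⟨hC, hd⟩⟩ := hQ.structure
  swap
  · left
    have hf : (commutator (G ⧸ K)).index = m := by
      obtain ⟨χ, hχ, h1⟩ := exists_irr_degree_eq_index_of_fpf _ hQ.1 hab hC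
      rw [← h1]
      refine (hcdQ χ hχ).resolve_left fun e => ?_
      have := charDegree_le_index_of_comm hφ _ hab
      have := charDegree_pos hφ
      omega
    refine ⟨(commutator (G ⧸ K)).comap (QuotientGroup.mk' K), inferInstance, fun a ha b hb => ?_,
      by rw [Subgroup.index_comap_of_surjective _ hs, hf]⟩
    refine congrArg Subtype.val (comm_of_forall_charDegree_eq_one
      (G := (commutator (G ⧸ K)).comap (QuotientGroup.mk' K)) (fun ψ hψ => ?_) ⟨a, ha⟩ ⟨b, hb⟩)
    rcases dvd_or_exists_degree_of_frobenius_section _ hs _ hp hpow hab hQ.1 hC hψ with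
      h1 | ⟨χ, hχ, h1⟩
    · obtain ⟨χ, hχ, h2⟩ := exists_charDegree_dvd_of_normal _ hψ
      rcases hcd χ hχ with h3 | h3
      · exact Nat.dvd_one.mp (h3 ▸ h2)
      · exact absurd (h1.trans (h3 ▸ h2)) (hf ▸ hd)
    · rw [hf] at h1
      rcases hcd χ hχ with h3 | h3
      · exact Nat.eq_one_of_mul_eq_one_left (h1 ▸ h3)
      · have := charDegree_pos hφ
        exact Nat.eq_of_mul_eq_mul_left (hφm ▸ this) (by rw [← h1, h3, mul_one])
  have := Fact.mk hp
  obtain ⟨e, he⟩ := exists_charDegree_eq_pow hP hφ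
  rw [hφm] at he
  have hpm : p ∣ m := he ▸ dvd_pow_self p (by rintro rfl; exact hm1 (by simpa using he))
  have hcop : (Nat.card (pResidual p G)).Coprime p := H3.hasNormalPComplement_iff_coprime.mp
    (hasNormalPComplement_of_forall_dvd hp fun χ hχ h1 => (hcd χ hχ).resolve_left h1 ▸ hpm)
  set A := pResidual p G
  have := Fintype.ofFinite A
  have hAab := comm_of_normal_of_coprime A fun χ hχ => by
    rcases hcd χ hχ with h | h
    · rw [h]; exact Nat.coprime_one_left _
    · rw [h, he]; exact hcop.symm.pow_left _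
  obtain ⟨P⟩ : Nonempty (Sylow p G) := inferInstance
  have hPA : (P : Subgroup G) ⊓ A = ⊥ := H3.inf_eq_bot_of_isPGroup_of_coprime P.isPGroup' hcop
  by_cases hall : ∀ μ, stab A μ = ⊤
  · right
    have hAZ : A ≤ Subgroup.center G := fun a ha => Subgroup.mem_center_iff.mpr fun g =>
      (mem_centralizer_of_forall_stab A hAab (fun μ => hall μ ▸ Subgroup.mem_top g) a ha).symm
    refine ⟨p, e, hp, he, P, A, ⟨fun x hx g => ?_⟩, inferInstance, P.isPGroup', hAZ, hcop, hPA,
      H3.sylow_sup_pResidual P⟩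
    obtain ⟨u, hu, w, hw, rfl⟩ := H3.exists_mul_pResidual P g
    have : u * w * x * (u * w)⁻¹ = u * x * u⁻¹ := by
      rw [mul_assoc u, ← Subgroup.mem_center_iff.mp (hAZ hw) x]; group
    rw [this]
    exact mul_mem (mul_mem hu hx) (inv_mem hu)
  left
  push Not at hall
  obtain ⟨lam, hlam⟩ := hall
  obtain ⟨k, hk⟩ : ∃ k, A.index = p ^ k := H3.exists_index_pResidual_eq_pow
  have h1 : ∀ μ, stab A μ ≠ ⊤ → (stab A μ).index = m ∧ ⁅stab A μ, stab A μ⁆ ≤ A := by
    intro μ hμ
    have hμi := isIrrCharacter_monoidHom μ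
    obtain ⟨η, hη, hext⟩ := exists_extension_le_of_coprime_card (le_stab A μ) hμi le_rfl
      ((hcop.symm.pow_left k).coprime_dvd_left (hk ▸ Subgroup.relIndex_dvd_index_of_le (le_stab A μ)))
    obtain ⟨h2, h3, -⟩ := of_forall_over_degree_eq A hμi rfl (le_stab A μ)
      (isCharacter_of_isIrr hη) hext (h := m) fun χ hχ hne =>
        (hcd χ hχ).resolve_left fun e => hμ (by
          have := index_inertia_dvd_charDegree A hχ hμi hne
          rwa [e, Nat.dvd_one, Subgroup.index_eq_one] at this)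
    rw [charDegree_monoidHom, mul_one] at h2
    exact ⟨h2, h3⟩
  have hAK : A ≤ K := H3.pResidual_le_of_isPGroup_quotient K hP
  have h2 : ∀ μ, stab A μ ≠ ⊤ → (stab A μ).Normal := by
    intro μ hμ
    have h3 := charDegree_le_index_of_comm hφ _ (comm_sup_center
      (B := (stab A μ).map (QuotientGroup.mk' K)) (commutator_self_eq_bot_iff.mp (by
        rw [← Subgroup.map_commutator, Subgroup.map_eq_bot_iff, QuotientGroup.ker_mk']
        exact (h1 μ hμ).2.trans hAK)))
    rw [← Subgroup.index_comap_of_surjective _ hs, hφm, ← (h1 μ hμ).1] at h3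
    have h4 := eq_of_le_of_index_le
      ((Subgroup.le_comap_map _ _).trans (Subgroup.comap_mono le_sup_left)) h3
    refine normal_of_commutator_le ?_
    rw [h4, ← Subgroup.map_le_iff_le_comap, map_commutator_of_surjective _ hs]
    exact hZ.trans le_sup_right
  have h3 : stab A lam ≤ Subgroup.centralizer (A : Set G) := fun t ht =>
    mem_centralizer_of_forall_stab A hAab fun μ => by
      by_cases hμ : stab A μ = ⊤
      · exact hμ ▸ Subgroup.mem_top t
      · rwa [← stab_eq_stab A hcop (fun g => ⟨k, hk ▸ Subgroup.pow_index_mem A g⟩)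
          (fun μ hμ => ⟨(h1 μ hμ).1, h2 μ hμ⟩) hlam hμ]
  refine ⟨stab A lam, h2 _ hlam, fun a ha b hb => ?_, (h1 _ hlam).1⟩
  obtain ⟨u, hu, w, hw, rfl⟩ := H3.exists_mul_pResidual P a
  obtain ⟨v, hv, z, hz, rfl⟩ := H3.exists_mul_pResidual P b
  have hu' : u ∈ stab A lam := (Subgroup.mul_mem_cancel_right _ (le_stab A lam hw)).mp ha
  have hv' : v ∈ stab A lam := (Subgroup.mul_mem_cancel_right _ (le_stab A lam hz)).mp hb
  have h4 : u * v = v * u := by
    rw [← commutatorElement_eq_one_iff_mul_comm, ← Subgroup.mem_bot, ← hPA]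
    exact Subgroup.mem_inf.mpr ⟨mul_mem (mul_mem (mul_mem hu hv) (inv_mem hu)) (inv_mem hv),
      (h1 _ hlam).2 (Subgroup.commutator_mem_commutator hu' hv')⟩
  calc u * w * (v * z) = u * v * (w * z) := by rw [mul_assoc, ← mul_assoc w, h3 hv' w hw]; group
    _ = v * u * (z * w) := by rw [h4, hAab w hw z hz]
    _ = v * z * (u * w) := by rw [mul_assoc, ← mul_assoc u, ← h3 hu' z hz]; group

theorem isPGroup_quotient_of_sup_eq_top {p : ℕ} {P A : Subgroup G} [A.Normal] (hP : IsPGroup p P)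
    (h : P ⊔ A = ⊤) : IsPGroup p (G ⧸ A) := by
  have h1 := hP.map (QuotientGroup.mk' A)
  have h2 : P.map (QuotientGroup.mk' A) = ⊤ := by
    have := congrArg (Subgroup.map (QuotientGroup.mk' A)) h
    rwa [Subgroup.map_sup, Subgroup.map_top_of_surjective _ (QuotientGroup.mk'_surjective A),
      (Subgroup.map_eq_bot_iff A).mpr (by rw [QuotientGroup.ker_mk']), sup_bot_eq] at this
  rw [h2] at h1
  exact h1.of_equiv Subgroup.topEquiv

theorem eq_bot_of_forall_irr [Finite G] {D : Subgroup G}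
    (h : ∀ χ : G → ℂ, IsIrrCharacter G χ → ∀ g ∈ D, χ g = χ 1) : D = ⊥ :=
  (Subgroup.eq_bot_iff_forall D).mpr fun g hg => eq_one_of_forall_irr fun χ hχ => h χ hχ g hg

/-- Taketa's step for a monomial character. -/
theorem commutator_le_ker_of_isMonomialChar [Fintype G] (D : Subgroup G) [D.Normal] {χ : G → ℂ}
    (hχ : IsMonomialChar χ)
    (h : ∀ ψ : G → ℂ, IsIrrCharacter G ψ → charDegree ψ < charDegree χ → ∀ g ∈ D, ψ g = ψ 1) :
    ∀ g ∈ ⁅D, D⁆, χ g = χ 1 := by
  obtain ⟨H, lam, rfl⟩ := hχ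
  refine commutator_le_ker_of_monomial D (isIrrCharacter_monoidHom lam) (charDegree_monoidHom lam)
    fun ψ hψ hlt => h ψ hψ ?_
  rwa [charDegree_indFun H (isCharacter_monoidHom lam), charDegree_monoidHom, mul_one]

theorem commutator_le_of_index_eq [Finite G] {m : ℕ}
    (hcd : ∀ χ : G → ℂ, IsIrrCharacter G χ → charDegree χ = 1 ∨ m ≤ charDegree χ)
    (A : Subgroup G) [A.Normal] (hA : A.index ≤ m) : commutator G ≤ A := by
  have := commutator_le_of_forall_linear A (T := ⊤) fun β hβ hk => by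
    obtain ⟨φ, hφ, rfl⟩ := exists_isIrr_comp_eq ((QuotientGroup.mk' A).comp (⊤ : Subgroup G).subtype)
      ((QuotientGroup.mk'_surjective A).comp fun g => ⟨⟨g, trivial⟩, rfl⟩) hβ
      fun g hg => hk g ((QuotientGroup.eq_one_iff (g : G)).mp hg)
    rw [charDegree_comp]
    refine (hcd _ (isIrrCharacter_inflate A hφ)).elim id fun h => ?_
    have h1 := charDegree_sq_le_card hφ
    have h2 := charDegree_pos hφ
    rw [charDegree_inflate] at h
    rw [← Subgroup.index_eq_card] at h1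
    nlinarith
  exact this

/-- Isaacs 12.6. -/
theorem two_degrees_metabelian [Finite G] {m : ℕ}
    (hcd : ∀ χ : G → ℂ, IsIrrCharacter G χ → charDegree χ = 1 ∨ charDegree χ = m) :
    ⁅commutator G, commutator G⁆ = ⊥ := by
  by_cases hG : commutator G = ⊥
  · rw [hG]; simp
  rcases two_degrees hcd hG with ⟨A, hA, hab, hi⟩ | ⟨p, e, hp, -, P, A, -, hA, hP, hZ, -, -, h⟩
  · have := commutator_le_of_index_eq (fun χ hχ => (hcd χ hχ).imp_right fun h => h.ge) A hi.le
    exact le_bot_iff.mp ((Subgroup.commutator_mono this this).trans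
      (commutator_self_eq_bot_iff.mpr hab).le)
  · have := Fact.mk hp
    have := Fintype.ofFinite G
    have := (isPGroup_quotient_of_sup_eq_top hP h).isNilpotent
    have : Group.IsNilpotent G := isNilpotent_of_ker_le_center (QuotientGroup.mk' A)
      (by rwa [QuotientGroup.ker_mk'])
    refine eq_bot_of_forall_irr fun χ hχ => commutator_le_ker_of_isMonomialChar _
      (isMonomialChar_of_isNilpotent hχ) fun ψ hψ hlt => (commutator_le_charKer_iff hψ).mpr ?_
    have := charDegree_pos hψ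
    rcases hcd χ hχ with h1 | h1 <;> rcases hcd ψ hψ with h2 | h2 <;> omega

end Cfsg.Agent.H88
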