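import Cfsg.Agent.H88.CD2
import Cfsg.Agent.H46.Irreducible

/-!
# Groups with three character degrees (Isaacs 12.15)
-/

set_option autoImplicit false

open scoped ComplexConjugate commutatorElement
open Cfsg Cfsg.Agent.H5 Cfsg.Agent.H6

namespace Cfsg.Agent.H88

universe u

variable {G : Type*} [Group G]

/-- Abelian-by-nilpotent groups are `M`-groups. -/
theorem isMonomialChar_of_abelian_by_nilpotent {G : Type u} [Group G] [Fintype G] (A : Subgroup G)
    [hA : A.Normal] (hab : ∀ a ∈ A, ∀ b ∈ A, a * b = b * a) (hn : Group.IsNilpotent (G ⧸ A))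
    {χ : G → ℂ} (hχ : IsIrrCharacter G χ) : IsMonomialChar χ := by
  refine isMonomialChar_of_class (fun K _ => ∃ A : Subgroup K, A.Normal ∧
    (∀ a ∈ A, ∀ b ∈ A, a * b = b * a) ∧ ∃ n, (⊤ : Subgroup K).lowerCentralSeries n ≤ A)
    ?_ ?_ ?_ G ?_ hχ
  · rintro K _ _ H ⟨A, hA, hab, n, hn⟩
    refine ⟨A.subgroupOf H, inferInstance, fun a ha b hb => Subtype.ext (hab a ha b hb), n, ?_⟩
    rw [Subgroup.subgroupOf, ← Subgroup.map_le_iff_le_comap, Subgroup.top_subtype_lowerCentralSeries]
    exact (Subgroup.lowerCentralSeries_mono n le_top).trans hn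
  · rintro K _ _ N _ ⟨A, hA, hab, n, hn⟩
    have hs := QuotientGroup.mk'_surjective N
    refine ⟨A.map (QuotientGroup.mk' N), hA.map _ hs, ?_, n, ?_⟩
    · rintro _ ⟨a, ha, rfl⟩ _ ⟨b, hb, rfl⟩
      rw [← map_mul, ← map_mul, hab a ha b hb]
    · rw [← Subgroup.map_top_of_surjective _ hs, ← Subgroup.map_lowerCentralSeries]
      exact Subgroup.map_mono hn
  · rintro K _ _ ⟨A, hA, hab, n, hn⟩ hK
    by_cases hZ : A ≤ Subgroup.center K
    · have : Group.IsNilpotent K := by
        refine Subgroup.nilpotent_iff_lowerCentralSeries.mpr ⟨n + 1, ?_⟩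
        rw [Subgroup.lowerCentralSeries_succ, Subgroup.commutator_eq_bot_iff_le_centralizer]
        exact fun a ha b _ => Subgroup.mem_center_iff.mp (hZ (hn ha)) b
      exact exists_abelian_normal_not_le_center hK
    · exact ⟨A, hA, hab, hZ⟩
  · obtain ⟨n, hn⟩ := Subgroup.nilpotent_iff_lowerCentralSeries.mp hn
    refine ⟨A, hA, hab, n, ?_⟩
    rwa [← Subgroup.map_top_of_surjective _ (QuotientGroup.mk'_surjective A),
      ← Subgroup.map_lowerCentralSeries, Subgroup.map_eq_bot_iff, QuotientGroup.ker_mk'] at hn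

theorem isCyclic_quotient_of_ker_le {R C : Type*} [Group R] [Group C] [IsCyclic C] (f : R →* C)
    (B : Subgroup R) [B.Normal] (h : f.ker ≤ B) : IsCyclic (R ⧸ B) := by
  have : IsCyclic (R ⧸ f.ker) := isCyclic_of_injective _ (QuotientGroup.kerLift_injective f)
  refine isCyclic_of_surjective (QuotientGroup.map f.ker B (MonoidHom.id R) h) fun x => ?_
  obtain ⟨x, rfl⟩ := QuotientGroup.mk_surjective x
  exact ⟨x, rfl⟩

theorem exists_extension_of_isPGroup_of_isCyclic [Finite G] (A : Subgroup G) [A.Normal] {q : ℕ}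
    [hq : Fact q.Prime] (hA : IsPGroup q A)
    (hc : ∀ R : Sylow q G, IsCyclic ((R : Subgroup G) ⧸ A.subgroupOf R)) {θ : A → ℂ}
    (hθ : IsIrrCharacter A θ) (hinv : inertia A θ = ⊤) :
    ∃ χ : G → ℂ, IsIrrCharacter G χ ∧ ∀ n : A, χ n = θ n := by
  refine H30.exists_extension_of_sylow hθ (invariant_of_inertia_eq_top hinv) fun r hr _ => ?_
  have := Fact.mk hr
  obtain ⟨R⟩ : Nonempty (Sylow r G) := inferInstance
  by_cases hrq : r = q
  · subst hrq
    obtain ⟨η, hη, he⟩ := exists_extension_le_of_isCyclic (hA.le_sylow_of_normal R) hθ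
      (hinv ▸ le_top) (hc R)
    exact ⟨R, _, η, ((Nat.Prime.coprime_iff_not_dvd hr).mpr R.not_dvd_index).symm,
      isCharacter_of_isIrr hη, he⟩
  · obtain ⟨a, ha⟩ := hA.exists_card_eq
    obtain ⟨b, hb⟩ := R.isPGroup'.exists_card_eq
    obtain ⟨η, hη, he⟩ := exists_extension_le_of_coprime_card (H := A ⊔ R) le_sup_left hθ
      (hinv ▸ le_top) (by
        rw [Subgroup.relIndex_sup_left, ha]
        exact (((Nat.coprime_primes hr hq.out).mpr hrq).pow b a).coprime_dvd_left
          (hb ▸ Subgroup.relIndex_dvd_card _ _))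
    exact ⟨A ⊔ R, _, η, ((Nat.Prime.coprime_iff_not_dvd hr).mpr fun h => R.not_dvd_index
      (h.trans (Subgroup.index_dvd_of_le le_sup_right))).symm, isCharacter_of_isIrr hη, he⟩

theorem exists_ne_of_over_nonlinear [Finite G] {A : Subgroup G} [Fintype A] {χ : G → ℂ}
    (hχ : IsCharacter G χ) {θ : A → ℂ} (hθ : IsIrrCharacter A θ) (h1 : charDegree θ ≠ 1)
    (h : classInner (fun x : A => χ x) θ ≠ 0) : ∃ x ∈ ⁅A, A⁆, χ x ≠ χ 1 := by
  by_contra hc
  push Not at hc
  refine h1 ((commutator_le_charKer_iff hθ).mp fun x hx =>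
    apply_eq_degree_of_constituent (isCharacter_restrict hχ A) hθ h (hc x ?_))
  rw [← Subgroup.map_subtype_commutator]
  exact Subgroup.mem_map_of_mem _ hx

theorem apply_eq_degree_of_under_normal [Finite G] (N : Subgroup G) [hN : N.Normal] [Fintype N]
    {χ : G → ℂ} (hχ : IsIrrCharacter G χ) {θ : N → ℂ} (hθ : IsIrrCharacter N θ)
    (h : classInner (fun x : N => χ x) θ ≠ 0) (D : Subgroup G) [hD : D.Normal] (hDN : D ≤ N)
    (hk : ∀ x : N, (x : G) ∈ D → θ x = θ 1) {g : G} (hg : g ∈ D) : χ g = χ 1 := by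
  have := Fintype.ofFinite G
  refine apply_eq_degree_of_forall_constituent (isCharacter_restrict (isCharacter_of_isIrr hχ) N)
    (g := ⟨g, hDN hg⟩) fun ψ hψ hne => ?_
  obtain ⟨x, rfl⟩ := exists_conjChar_eq_of_constituent N hχ hθ hψ h hne
  rw [conjChar_apply_one, conjChar_apply]
  exact hk _ (hD.conj_mem g hg x)

theorem charDegree_ne_one_of_under [Finite G] (N : Subgroup G) [N.Normal] [Fintype N]
    {χ : G → ℂ} (hχ : IsIrrCharacter G χ) (hx : ∃ x ∈ ⁅N, N⁆, χ x ≠ χ 1) {θ : N → ℂ}
    (hθ : IsIrrCharacter N θ) (h : classInner (fun x : N => χ x) θ ≠ 0) : charDegree θ ≠ 1 := by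
  obtain ⟨x, hx, hne⟩ := hx
  refine fun e => hne (apply_eq_degree_of_under_normal N hχ hθ h ⁅N, N⁆
    (Subgroup.commutator_le_left N N) (fun y hy => (commutator_le_charKer_iff hθ).mpr e y ?_) hx)
  rw [← Subgroup.map_subtype_commutator] at hy
  obtain ⟨z, hz, e⟩ := hy
  rwa [← Subtype.ext e]

theorem map_subtype_commutator_commutator (N : Subgroup G) :
    ⁅commutator N, commutator N⁆.map N.subtype = ⁅⁅N, N⁆, ⁅N, N⁆⁆ := by
  rw [Subgroup.map_commutator, Subgroup.map_subtype_commutator]

theorem metabelian_of_two_degrees [Finite G] (N : Subgroup G) {m : ℕ}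
    (hcd : ∀ χ : N → ℂ, IsIrrCharacter N χ → charDegree χ = 1 ∨ charDegree χ = m) :
    ⁅⁅N, N⁆, ⁅N, N⁆⁆ = ⊥ := by
  rw [← map_subtype_commutator_commutator, two_degrees_metabelian hcd, Subgroup.map_bot]

theorem metabelian_of_relative_degree_aux {p h : ℕ} (hp : p.Prime) (hph : p ∣ h) (c : ℕ) :
    ∀ (G : Type u) [Group G] [Finite G] [Group.IsSolvable G] (N : Subgroup G) [N.Normal],
      Nat.card G = c → IsCyclic (G ⧸ N) → ¬ p ∣ N.index →
      (∀ χ, IsIrrCharacter G χ → (∃ x ∈ ⁅N, N⁆, χ x ≠ χ 1) → charDegree χ = h) →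
      ⁅⁅N, N⁆, ⁅N, N⁆⁆ = ⊥ := by
  induction c using Nat.strong_induction_on with
  | _ c ih =>
  intro G _ _ _ N hN hc hcyc hpN H
  classical
  have := Fintype.ofFinite G
  have := Fintype.ofFinite N
  by_contra hD1
  set D := ⁅⁅N, N⁆, ⁅N, N⁆⁆ with hD
  have hDN' : D ≤ ⁅N, N⁆ := Subgroup.commutator_le_left _ _
  have hDN : D ≤ N := hDN'.trans (Subgroup.commutator_le_left _ _)
  have hmin : ∀ L : Subgroup G, L.Normal → L ≠ ⊥ → D ≤ L := by
    intro L _ hL
    have hs := QuotientGroup.mk'_surjective L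
    have : (N.map (QuotientGroup.mk' L)).Normal := hN.map _ hs
    have h1 := ih _ (hc ▸ card_quotient_lt L hL) (G ⧸ L) (N.map (QuotientGroup.mk' L)) rfl
      (isCyclic_of_surjective (QuotientGroup.map N (N.map (QuotientGroup.mk' L))
        (QuotientGroup.mk' L) (Subgroup.le_comap_map _ _)) fun x => by
          obtain ⟨x, rfl⟩ := QuotientGroup.mk_surjective x
          obtain ⟨x, rfl⟩ := QuotientGroup.mk_surjective x
          exact ⟨x, rfl⟩)
      (fun hd => hpN (hd.trans (N.index_map_dvd hs))) fun φ hφ ⟨x, hx, hne⟩ => by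
        rw [← Subgroup.map_commutator] at hx
        obtain ⟨y, hy, rfl⟩ := hx
        exact H _ (isIrrCharacter_inflate L hφ) ⟨y, hy, hne⟩
    rwa [← Subgroup.map_commutator, ← Subgroup.map_commutator, Subgroup.map_eq_bot_iff,
      QuotientGroup.ker_mk'] at h1
  obtain ⟨-, q, hq, hpow⟩ := H2.minimal_normal_elementary_abelian D inferInstance hD1
    fun M hM hle => (em (M = ⊥)).imp_right fun hM1 => le_antisymm hle (hmin M hM hM1)
  have := Fact.mk hq
  have hDq : IsPGroup q D := H2.isPGroup_of_forall_pow_eq_one hpow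
  have hres : ∀ r : ℕ, r.Prime → r ∣ h →
      (Nat.card ((pResidual r N).map N.subtype)).Coprime r := fun r hr hd => by
    have := Fact.mk hr
    rw [Subgroup.card_map_of_injective N.subtype_injective]
    exact H3.hasNormalPComplement_iff_coprime.mp
      (hasNormalPComplement_of_forall_dvd_degree hr N fun χ hχ hx => H χ hχ hx ▸ hd)
  by_cases hqh : q ∣ h
  · have h1 : (pResidual q N).map N.subtype = ⊥ := by
      by_contra hne
      exact hD1 (H22.eq_bot_of_pgroup_coprime hDq
        (H22.coprime_card_of_le (hmin _ inferInstance hne) (hres q hq hqh)))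
    rw [Subgroup.map_eq_bot_iff_of_injective _ N.subtype_injective, H3.pResidual_eq_bot_iff] at h1
    refine hD1 (metabelian_of_two_degrees N (m := ordProj[p] h) fun ψ hψ => ?_)
    rw [or_iff_not_imp_left]
    intro hψ1
    obtain ⟨χ, hχ, hne⟩ := exists_irr_over N hψ
    obtain ⟨e, he, hd⟩ := exists_charDegree_eq_mul N hχ hψ hne
    rw [H χ hχ (exists_ne_of_over_nonlinear (isCharacter_of_isIrr hχ) hψ hψ1 hne)] at hd
    have hpe : ¬ p ∣ e := fun h => hpN (h.trans he)
    obtain ⟨k, hk⟩ := exists_charDegree_eq_pow h1 hψ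
    have hpq : p = q := by
      rw [hd, hk] at hph
      exact (Nat.prime_dvd_prime_iff_eq hp hq).mp
        (hp.dvd_of_dvd_pow ((hp.dvd_mul.mp hph).resolve_left hpe))
    subst hpq
    rw [hd, hk, Nat.factorization_mul (fun h : e = 0 => hpe (h ▸ dvd_zero p)) (pow_ne_zero _ hp.ne_zero),
      Finsupp.add_apply, Nat.factorization_eq_zero_of_not_dvd hpe, hp.factorization_pow,
      Finsupp.single_eq_same, zero_add]
  let B : Subgroup G := ⨅ r : {r : ℕ // r.Prime ∧ r ∣ h}, (pResidual r N).map N.subtype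
  have hBn : B.Normal := Subgroup.normal_iInf_normal fun _ => inferInstance
  have hBN : B ≤ N := (iInf_le _ (⟨p, hp, hph⟩ : {r : ℕ // r.Prime ∧ r ∣ h})).trans
    (Subgroup.map_subtype_le _)
  have hBh : (Nat.card B).Coprime h := Nat.Coprime.symm (Nat.coprime_of_dvd fun r hr hd hB =>
    (Nat.Prime.coprime_iff_not_dvd hr).mp (H22.coprime_card_of_le
      (iInf_le _ (⟨r, hr, hd⟩ : {r : ℕ // r.Prime ∧ r ∣ h})) (hres r hr hd)).symm hB)
  have hBab : ∀ a ∈ B, ∀ b ∈ B, a * b = b * a := fun a ha b hb => by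
    have := Fintype.ofFinite B
    refine congrArg Subtype.val (comm_of_forall_charDegree_eq_one (G := B) (fun θ hθ => ?_)
      ⟨a, ha⟩ ⟨b, hb⟩)
    by_contra h1
    obtain ⟨χ, hχ, hne⟩ := exists_irr_over B hθ
    obtain ⟨x, hx, hx'⟩ := exists_ne_of_over_nonlinear (isCharacter_of_isIrr hχ) hθ h1 hne
    have h2 := charDegree_dvd_of_normal B hχ hθ hne
    rw [H χ hχ ⟨x, Subgroup.commutator_mono hBN hBN hx, hx'⟩] at h2
    exact h1 (Nat.eq_one_of_dvd_coprimes hBh (charDegree_dvd_card hθ) h2)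
  have hqB : ∀ x ∈ N, (∃ k, x ^ q ^ k = 1) → x ∈ B := by
    rintro x hx ⟨k, hk⟩
    refine Subgroup.mem_iInf.mpr fun r => H3.mem_map_subtype_pResidual_of_coprime hx ?_
    refine Nat.Coprime.coprime_dvd_left (orderOf_dvd_of_pow_eq_one hk) (Nat.Coprime.pow_left _ ?_)
    exact (Nat.coprime_primes hq r.2.1).mpr fun e => hqh (e ▸ r.2.2)
  let A : Subgroup G := pCore q G ⊓ B
  have := Fintype.ofFinite A
  have hAq : IsPGroup q A := H22.isPGroup_pCore.to_inf_left
  have hAab : ∀ a ∈ A, ∀ b ∈ A, a * b = b * a := fun a ha b hb => hBab a ha.2 b hb.2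
  have hqA : ∀ x ∈ N, (∃ k, x ^ q ^ k = 1) → x ∈ A := by
    intro x hx hk
    have hxB := hqB x hx hk
    have h1 := H22.le_map_pCore (p := q) (K := Subgroup.zpowers x) (H := B)
      (Subgroup.zpowers_le.mpr hxB) (fun b hb => Subgroup.centralizer_le_normalizer _ fun y hy =>
        hBab y (Subgroup.zpowers_le.mpr hxB hy) b hb) (by
          obtain ⟨k, hk⟩ := hk
          obtain ⟨j, -, hj⟩ := (Nat.dvd_prime_pow hq).mp (orderOf_dvd_of_pow_eq_one hk)
          exact IsPGroup.of_card (by rw [Nat.card_zpowers, hj]))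
    rw [H22.map_pCore_of_normal] at h1
    exact h1 (Subgroup.mem_zpowers x)
  have hDA : D ≤ A := fun x hx => hqA x (hDN hx) ⟨1, by rw [pow_one, hpow x hx]⟩
  refine hD1 (eq_bot_of_forall_irr fun χ hχ => ?_)
  by_contra hcon
  obtain ⟨lam, hlam, hne⟩ := exists_irr_under' A hχ
  have h1 : ∀ χ' : G → ℂ, IsIrrCharacter G χ' → classInner (fun n : A => χ' n) lam ≠ 0 →
      charDegree χ' = h := fun χ' hχ' hne' => by
    refine H χ' hχ' ?_
    by_contra hcon'
    push Not at hcon'
    refine hcon fun g hg => apply_eq_degree_of_under_normal A hχ hlam hne D hDA (fun x hx => ?_) hg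
    exact apply_eq_degree_of_constituent (isCharacter_restrict (isCharacter_of_isIrr hχ') A) hlam
      hne' (hcon' x (hDN' hx))
  have hAT := le_inertia A (isClassFunction_of_isIrr hlam)
  obtain ⟨η, hη, he⟩ := exists_extension_of_isPGroup_of_isCyclic (A.subgroupOf (inertia A lam))
    (hAq.comap_subtype) (fun R => isCyclic_quotient_of_ker_le ((QuotientGroup.mk' N).comp
      ((inertia A lam).subtype.comp (R : Subgroup (inertia A lam)).subtype)) _ fun x hx => by
        refine hqA _ ((QuotientGroup.eq_one_iff ((x : inertia A lam) : G)).mp hx) ?_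
        obtain ⟨k, hk⟩ := R.isPGroup' x
        exact ⟨k, congrArg (fun z : (R : Subgroup (inertia A lam)) => ((z : inertia A lam) : G)) hk⟩)
    (isIrr_resSub hAT hlam) (inertia_resSub_eq_top hAT le_rfl)
  have he' : ∀ n : A, η ⟨n, hAT n.2⟩ = lam n := fun n => he ⟨⟨n, hAT n.2⟩, n.2⟩
  have hl1 := charDegree_eq_one_of_comm (subgroup_comm hAab) hlam
  obtain ⟨h2, -, h3⟩ := of_forall_over_degree_eq A hlam rfl hAT (isCharacter_of_isIrr hη) he' h1
  obtain ⟨β, hβ, hk, rfl⟩ := exists_eq_indFun_mul_of_extension A hlam rfl hAT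
    (isCharacter_of_isIrr hη) he' hχ hne
  refine hcon (commutator_le_ker_of_monomial ⁅N, N⁆
    (isIrr_mul_of_extension_le hAT hlam (isCharacter_of_isIrr hη) he' hβ hk) ?_ fun ψ hψ hlt => ?_)
  · rw [charDegree_mul (isCharacter_of_isIrr hβ) (isCharacter_of_isIrr hη), h3 β hβ hk,
      charDegree_congr (χ := η) (θ := lam) (he' 1), hl1]
  · by_contra hcon'
    push Not at hcon'
    have := H ψ hψ hcon'
    rw [hl1] at h2
    omega

theorem MinNA.isCyclic_quotient [Finite G] (h : MinNA G) {p : ℕ} (hp : p.Prime)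
    (hpow : ∀ x ∈ commutator G, x ^ p = 1)
    (hab : ∀ a ∈ commutator G, ∀ b ∈ commutator G, a * b = b * a)
    (hC : ∀ g, g ∉ commutator G → ∀ k ∈ commutator G, g * k = k * g → k = 1)
    (hd : ¬ p ∣ (commutator G).index) : IsCyclic (G ⧸ commutator G) := by
  have := Fact.mk hp
  obtain ⟨n, hn⟩ := (H2.isPGroup_of_forall_pow_eq_one hpow).exists_card_eq
  obtain ⟨H, hH⟩ := Subgroup.exists_right_complement'_of_coprime (N := commutator G)
    (by rw [hn]; exact ((Nat.Prime.coprime_iff_not_dvd hp).mpr hd).pow_left _)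
  have hHc : IsMulCommutative H := H2.isMulCommutative_of_forall fun a ha b hb => by
    rw [← commutatorElement_eq_one_iff_mul_comm]
    exact Subgroup.disjoint_def.mp hH.disjoint (commutatorElement_mem_commutator' a b)
      (mul_mem (mul_mem (mul_mem ha hb) (inv_mem ha)) (inv_mem hb))
  obtain ⟨B, hBH, hB, a, -, hBa⟩ := H46.exists_cyclic_quotient_of_irreducible (A := H)
    (X := commutator G) (M := ⊥) hHc Subgroup.le_normalizer_of_normal
    Subgroup.le_normalizer_of_normal bot_le (commutator_self_eq_bot_iff.mpr hab).le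
    fun W _ hW hn => (em (W = ⊥)).imp_right fun hW1 => le_antisymm hW (h.2 W (by
      rw [← Subgroup.normalizer_eq_top_iff, eq_top_iff, ← hH.sup_eq_top]
      exact sup_le (fun b hb => Subgroup.centralizer_le_normalizer _ fun y hy =>
        hab y (hW hy) b hb) hn) hW1)
  have hB1 : B ≤ commutator G := fun b hb => by
    by_contra hb'
    obtain ⟨k, hk⟩ := Subgroup.ne_bot_iff_exists_ne_one.mp h.1
    refine hk (Subtype.ext (hC b hb' k k.2 ?_))
    exact (commutatorElement_eq_one_iff_mul_comm.mp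
      (Subgroup.mem_bot.mp (hB (Subgroup.commutator_mem_commutator k.2 hb)))).symm
  rw [isCyclic_iff_exists_zpowers_eq_top]
  refine ⟨a, ?_⟩
  have h1 : commutator G ⊔ Subgroup.zpowers a = ⊤ := by
    rw [eq_top_iff, ← hH.sup_eq_top, ← hBa]
    exact sup_le le_sup_left (sup_le (hB1.trans le_sup_left) le_sup_right)
  have := congrArg (Subgroup.map (QuotientGroup.mk' (commutator G))) h1
  rwa [Subgroup.map_sup, Subgroup.map_top_of_surjective _ (QuotientGroup.mk'_surjective _),
    (Subgroup.map_eq_bot_iff _).mpr (by rw [QuotientGroup.ker_mk']), bot_sup_eq,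
    MonoidHom.map_zpowers] at this

theorem derivedSeries_three (G : Type*) [Group G] : derivedSeries G 3 =
    ⁅⁅commutator G, commutator G⁆, ⁅commutator G, commutator G⁆⁆ := rfl

theorem exists_other_degree {m n f : ℕ}
    (hcd : ∀ χ, IsIrrCharacter G χ → charDegree χ = 1 ∨ charDegree χ = m ∨ charDegree χ = n)
    (hf : f = m ∨ f = n) : ∃ h, ∀ χ, IsIrrCharacter G χ →
      charDegree χ = 1 ∨ charDegree χ = f ∨ charDegree χ = h := by
  rcases hf with rfl | rfl
  · exact ⟨n, hcd⟩
  · exact ⟨m, fun χ hχ => by have := hcd χ hχ; tauto⟩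

/-- Isaacs 12.15. -/
theorem derivedSeries_three_eq_bot [Finite G] {m n : ℕ}
    (hcd : ∀ χ, IsIrrCharacter G χ → charDegree χ = 1 ∨ charDegree χ = m ∨ charDegree χ = n) :
    derivedSeries G 3 = ⊥ := by
  classical
  have := Fintype.ofFinite G
  have : Group.IsSolvable G := isSolvable_of_three_degrees hcd
  rw [derivedSeries_three]
  by_cases hG : commutator G = ⊥
  · rw [hG]; simp
  obtain ⟨K, hK, hQ⟩ := exists_minNA_quotient hG
  have hs := QuotientGroup.mk'_surjective K
  obtain ⟨φ, hφ, hφ1⟩ := exists_irr_ne_one_of_commutator_ne_bot hQ.1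
  obtain ⟨p, hp, hpow, hab, ⟨hP, -⟩ | ⟨hC, hd⟩⟩ := hQ.structure
  · have := Fact.mk hp
    obtain ⟨h, hcd⟩ := exists_other_degree hcd
      ((hcd _ (isIrrCharacter_inflate K hφ)).resolve_left hφ1)
    rw [charDegree_inflate] at hcd
    obtain ⟨e, he⟩ := exists_charDegree_eq_pow hP hφ
    have hpf : p ∣ charDegree φ := he ▸ dvd_pow_self p (by rintro rfl; exact hφ1 (by simpa using he))
    have h1 : ∀ χ, IsIrrCharacter G χ → charDegree χ ≠ 1 → p ∣ charDegree χ := by
      intro χ hχ hχ1
      by_contra hpχ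
      obtain ⟨k, hk⟩ := hP.exists_card_eq
      have h2 := H30.isIrr_mul_of_ker K (isCharacter_of_isIrr hχ)
        (isIrr_restrict_of_coprime K hχ (by
          rw [Subgroup.index_eq_card, hk]
          exact ((Nat.Prime.coprime_iff_not_dvd hp).mpr hpχ).symm.pow_right _))
        (isIrrCharacter_inflate K hφ) fun n hn => by rw [(QuotientGroup.eq_one_iff n).mpr hn]; rfl
      have h3 := hcd _ h2
      rw [charDegree_mul (isCharacter_of_isIrr (isIrrCharacter_inflate K hφ))
        (isCharacter_of_isIrr hχ), charDegree_inflate] at h3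
      have h4 : charDegree χ = h := ((hcd χ hχ).resolve_left hχ1).resolve_left fun e =>
        hpχ (e ▸ hpf)
      have h5 := charDegree_pos hφ
      have h6 := charDegree_pos hχ
      rcases h3 with h3 | h3 | h3
      · exact hχ1 (Nat.eq_one_of_mul_eq_one_left h3)
      · exact hχ1 (Nat.eq_of_mul_eq_mul_left h5 (by rw [h3, mul_one]))
      · exact hφ1 (Nat.eq_of_mul_eq_mul_right h6 (by rw [h3, h4, one_mul]))
    obtain ⟨A, hA, hcop, k, hk⟩ := H3.hasNormalPComplement_iff_exists_normal.mp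
      (hasNormalPComplement_of_forall_dvd hp h1)
    have := Fintype.ofFinite A
    have h2 : ∀ θ, IsIrrCharacter A θ → charDegree θ = 1 ∨ charDegree θ = ordCompl[p] h :=
      fun θ hθ => by
        obtain ⟨χ, hχ, hne⟩ := exists_irr_over A hθ
        rw [charDegree_eq_ordCompl hp A hcop hk hχ hθ hne]
        rcases hcd χ hχ with h | h | h
        · simp [h]
        · rw [h, he]; simp [hp.factorization_pow, hp.pos]
        · simp [h]
    by_cases h3 : ordCompl[p] h = 1
    · have hAab : ∀ a ∈ A, ∀ b ∈ A, a * b = b * a := fun a ha b hb => congrArg Subtype.val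
        (comm_of_forall_charDegree_eq_one (G := A) (fun θ hθ => by
          have := h2 θ hθ; omega) ⟨a, ha⟩ ⟨b, hb⟩)
      have hM : ∀ χ, IsIrrCharacter G χ → IsMonomialChar χ := fun χ hχ =>
        isMonomialChar_of_abelian_by_nilpotent A hAab (IsPGroup.of_card (p := p) hk).isNilpotent hχ
      refine eq_bot_of_forall_irr fun χ hχ => commutator_le_ker_of_isMonomialChar _ (hM χ hχ)
        fun ψ hψ hlt => commutator_le_ker_of_isMonomialChar _ (hM ψ hψ)
          fun η hη hlt' => (commutator_le_charKer_iff hη).mpr ?_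
      have := charDegree_pos hη
      have := hcd χ hχ
      have := hcd ψ hψ
      have := hcd η hη
      omega
    · have hs' := QuotientGroup.mk'_surjective ⁅A, A⁆
      have h4 := two_degrees_metabelian (G := G ⧸ ⁅A, A⁆) (m := charDegree φ) fun ψ hψ => by
        have : (A.map (QuotientGroup.mk' ⁅A, A⁆)).Normal := hA.map _ hs'
        have h5 := (charDegree_dvd_index_of_comm hψ (A.map (QuotientGroup.mk' ⁅A, A⁆))
          (commutator_self_eq_bot_iff.mp (by
            rw [← Subgroup.map_commutator, Subgroup.map_eq_bot_iff, QuotientGroup.ker_mk']))).trans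
          (A.index_map_dvd hs')
        rw [hk] at h5
        obtain ⟨j, -, hj⟩ := (Nat.dvd_prime_pow hp).mp h5
        rcases hcd _ (isIrrCharacter_inflate _ hψ) with h6 | h6 | h6
        · exact Or.inl h6
        · exact Or.inr h6
        · rw [charDegree_inflate, hj] at h6
          exact absurd (by rw [← h6]; simp [hp.factorization_pow, hp.pos]) h3
      rw [← map_commutator_of_surjective _ hs', ← Subgroup.map_commutator, Subgroup.map_eq_bot_iff,
        QuotientGroup.ker_mk'] at h4
      exact le_bot_iff.mp ((Subgroup.commutator_mono h4 h4).trans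
        (metabelian_of_two_degrees A h2).le)
  · obtain ⟨χ₀, hχ₀, hf⟩ := exists_irr_degree_eq_index_of_fpf _ hQ.1 hab hC
    have hf1 : (commutator (G ⧸ K)).index ≠ 1 := fun e => by
      have := charDegree_le_index_of_comm hφ _ hab
      have := charDegree_pos hφ
      omega
    obtain ⟨h, hcd⟩ := exists_other_degree hcd
      ((hcd _ (isIrrCharacter_inflate K hχ₀)).resolve_left (hf ▸ hf1))
    rw [charDegree_inflate, hf] at hcd
    let N := (commutator (G ⧸ K)).comap (QuotientGroup.mk' K)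
    have := Fintype.ofFinite N
    have hGN : commutator G ≤ N := by
      rw [← Subgroup.map_le_iff_le_comap, map_commutator_of_surjective _ hs]
    have hNi : N.index = (commutator (G ⧸ K)).index := Subgroup.index_comap_of_surjective _ hs
    have hf0 : 0 < (commutator (G ⧸ K)).index := Nat.pos_of_ne_zero Subgroup.index_ne_zero_of_finite
    refine le_bot_iff.mp ((Subgroup.commutator_mono (Subgroup.commutator_mono hGN hGN)
      (Subgroup.commutator_mono hGN hGN)).trans (le_of_eq ?_))
    have h1 : ∀ ψ, IsIrrCharacter N ψ → charDegree ψ ≠ 1 →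
        p ∣ charDegree ψ ∨ (commutator (G ⧸ K)).index * charDegree ψ = h := fun ψ hψ hψ1 => by
      refine (dvd_or_exists_degree_of_frobenius_section _ hs _ hp hpow hab hQ.1 hC hψ).imp_right ?_
      rintro ⟨χ, hχ, h1⟩
      rcases hcd χ hχ with h3 | h3 | h3
      · exact absurd (Nat.eq_one_of_mul_eq_one_left (h1 ▸ h3)) hψ1
      · exact absurd (Nat.eq_of_mul_eq_mul_left hf0 (by rw [← h1, h3, mul_one])) hψ1
      · rw [← h1, h3]
    by_cases hph : p ∣ h
    · refine metabelian_of_relative_degree_aux hp hph _ G N rfl ?_ (hNi ▸ hd) fun χ hχ hx => ?_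
      · have := hQ.isCyclic_quotient hp hpow hab hC hd
        exact isCyclic_quotient_of_ker_le
          ((QuotientGroup.mk' (commutator (G ⧸ K))).comp (QuotientGroup.mk' K)) N
          fun x hx => (QuotientGroup.eq_one_iff (x : G ⧸ K)).mp hx
      · obtain ⟨ψ, hψ, hne⟩ := exists_irr_under' N hχ
        have h2 : p ∣ charDegree ψ := (h1 ψ hψ (charDegree_ne_one_of_under N hχ hx hψ hne)).elim id
          fun e => (hp.dvd_mul.mp (e ▸ hph)).resolve_left hd
        have h3 := h2.trans (charDegree_dvd_of_normal N hχ hψ hne)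
        rcases hcd χ hχ with h4 | h4 | h4
        · exact absurd (h4 ▸ h3) hp.not_dvd_one
        · exact absurd (h4 ▸ h3) hd
        · exact h4
    · refine metabelian_of_two_degrees N (m := h / (commutator (G ⧸ K)).index) fun ψ hψ => ?_
      rw [or_iff_not_imp_left]
      intro hψ1
      rcases h1 ψ hψ hψ1 with h2 | h2
      · obtain ⟨χ, hχ, h3⟩ := exists_charDegree_dvd_of_normal N hψ
        have h3 := h2.trans h3
        rcases hcd χ hχ with h4 | h4 | h4
        · exact absurd (h4 ▸ h3) hp.not_dvd_one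
        · exact absurd (h4 ▸ h3) hd
        · exact absurd (h4 ▸ h3) hph
      · rw [← h2, Nat.mul_div_cancel_left _ hf0]

end Cfsg.Agent.H88
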