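import Cfsg.Agent.H88.CD3Solv
import Cfsg.Agent.H35.Rank
import Cfsg.Agent.H35.FreeSum
import Cfsg.Agent.H24.PermModule

/-!
# Characters of small degree and free actions of a `p`-subgroup (Feit VIII.7)
-/

set_option autoImplicit false

open scoped ComplexConjugate
open Cfsg Cfsg.Agent.H5 Cfsg.Agent.H6 Matrix

namespace Cfsg.Agent.H88

/-- every character is afforded over a discrete valuation ring of residue characteristic `p`. -/
theorem exists_dvr_form {G : Type*} [Group G] [Finite G] {χ : G → ℂ} (h : IsCharacter G χ) {p : ℕ}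
    (hp : p.Prime) : ∃ (O : Type) (_ : CommRing O) (_ : IsDomain O) (_ : IsDiscreteValuationRing O)
      (ι : O →+* ℂ), Function.Injective ι ∧ CharP (IsLocalRing.ResidueField O) p ∧
      ∃ A : G →* Matrix (Fin (charDegree χ)) (Fin (charDegree χ)) O, ∀ g, ι (A g).trace = χ g := by
  obtain ⟨n, A₀, halg, hA₀⟩ := H35.exists_algebraic_matrix h
  obtain rfl : charDegree χ = n := charDegree_eq_of_eq (by rw [← hA₀, map_one]; simp)
  obtain ⟨O, _, _, _, ι, hι, hpu, h1, -⟩ := H35.exists_dvr hp
    (Set.range fun t : G × Fin (charDegree χ) × Fin (charDegree χ) => A₀ t.1 t.2.1 t.2.2)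
    (Set.finite_range _) (by rintro _ ⟨t, rfl⟩; exact halg _ _ _)
  obtain ⟨A, hA⟩ := H35.exists_integral_form ι hι A₀ fun g i j => h1 _ ⟨(g, i, j), rfl⟩
  refine ⟨O, _, ‹_›, ‹_›, ι, hι, ?_, A, fun g => (hA g).trans (hA₀ g)⟩
  refine (CharP.charP_iff_prime_eq_zero hp).mpr ?_
  rw [← map_natCast (IsLocalRing.residue O), IsLocalRing.residue_eq_zero_iff]
  exact hpu

/-- a `p`-group has norm element zero on modules of dimension less than its order. -/
theorem sum_eq_zero_of_lt_card {P k : Type*} [Group P] [Fintype P] [Field k] {p n : ℕ}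
    [Fact p.Prime] [CharP k p] (hP : IsPGroup p P) (A : P →* Matrix (Fin n) (Fin n) k)
    (hn : n < Nat.card P) : ∑ u, A u = 0 := by
  classical
  by_contra hne
  obtain ⟨v, hv⟩ : ∃ v, (∑ u, A u) *ᵥ v ≠ 0 := by
    by_contra hc
    push Not at hc
    exact hne (Matrix.toLin'.injective (LinearMap.ext fun v => by
      simpa [sum_mulVec] using hc v))
  let φ : (P → k) →ₗ[k] (Fin n → k) := Fintype.linearCombination k fun u => A u *ᵥ v
  let ρ : Representation k P (P → k) :=
    { toFun := fun g => LinearMap.funLeft k k fun u => g⁻¹ * u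
      map_one' := by ext; simp
      map_mul' := fun a b => by ext; simp [mul_assoc] }
  have hker : LinearMap.ker φ ≠ ⊥ := fun e => by
    have := LinearMap.finrank_le_finrank_of_injective (LinearMap.ker_eq_bot.mp e)
    simp only [Module.finrank_fintype_fun_eq_card, Fintype.card_fin] at this
    rw [Nat.card_eq_fintype_card] at hn
    omega
  obtain ⟨a, ha, ha0, hfix⟩ := H24.exists_fixed_vector hP ρ _ (fun g a ha => by
    rw [LinearMap.mem_ker] at ha ⊢
    have h1 : φ (ρ g a) = A g *ᵥ φ a := by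
      simp only [φ, Fintype.linearCombination_apply, mulVec_sum, mulVec_smul, mulVec_mulVec,
        ← map_mul]
      refine (Fintype.sum_equiv (Equiv.mulLeft g) _ _ fun u => ?_).symm
      simp [ρ]
    rw [h1, ha, mulVec_zero]) hker
  have hc : ∀ u, a u = a 1 := fun u => by simpa [ρ] using (congrFun (hfix u) u).symm
  rw [LinearMap.mem_ker] at ha
  simp only [φ, Fintype.linearCombination_apply, hc, ← Finset.smul_sum, ← sum_mulVec] at ha
  exact ha0 (funext fun u => (hc u).trans ((smul_eq_zero.mp ha).resolve_right hv))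

theorem rank_sum_eq {K : Type*} [Group K] [Fintype K] {n : ℕ} (A : K →* Matrix (Fin n) (Fin n) ℂ) :
    ((∑ g, A g).rank : ℂ) = classInner (fun g => (A g).trace) fun _ => 1 := by
  have h0 : (Nat.card K : ℂ) ≠ 0 := natCard_ne_zero
  have h1 : ((Nat.card K : ℂ)⁻¹ • ∑ g, A g) * ((Nat.card K : ℂ)⁻¹ • ∑ g, A g) =
      (Nat.card K : ℂ)⁻¹ • ∑ g, A g := by
    have h2 : ∀ g, A g * ∑ h, A h = ∑ h, A h := fun g => by
      rw [Finset.mul_sum]
      exact Fintype.sum_equiv (Equiv.mulLeft g) _ _ fun u => by simp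
    rw [smul_mul_smul_comm, Finset.sum_mul]
    simp only [h2, Finset.sum_const, Finset.card_univ, ← Nat.card_eq_fintype_card]
    rw [← Nat.cast_smul_eq_nsmul ℂ, smul_smul, inv_mul_cancel_right₀ h0]
  rw [classInner_one_right, ← Matrix.rank_smul_of_mem_nonZeroDivisors (c := (Nat.card K : ℂ)⁻¹) _
    (mem_nonZeroDivisors_of_ne_zero (inv_ne_zero h0)), ← H35.trace_eq_rank_of_idem h1, trace_smul,
    trace_sum, smul_eq_mul]

theorem classInner_one_restrict_of_free {G : Type*} [Group G] [Fintype G] {p : ℕ} (hp : p.Prime)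
    {P H : Subgroup G} [Fintype H] (hP : IsPGroup p P) (hPH : P ≤ H)
    (hfree : ∀ u ∈ P, ∀ g, g ∉ H → g⁻¹ * u * g ∈ H → u = 1) {Θ : G → ℂ} (hΘ : IsCharacter G Θ)
    (hlt : charDegree Θ < Nat.card P) :
    classInner Θ (fun _ => 1) = classInner (fun h : H => Θ h) fun _ => 1 := by
  classical
  have := Fact.mk hp
  have := Fintype.ofFinite P
  have := Fintype.ofFinite (G ⧸ H)
  obtain ⟨O, _, _, _, ι, hι, hchar, A, hA⟩ := exists_dvr_form hΘ hp
  have h0 : (∑ u : P, A u).map (IsLocalRing.residue O) = 0 := by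
    have := sum_eq_zero_of_lt_card hP ((H35.mapRep (IsLocalRing.residue O) A).comp P.subtype) hlt
    rw [← this, ← RingHom.mapMatrix_apply, map_sum]
    rfl
  let D : AddSubmonoid (Matrix (Fin (charDegree Θ)) (Fin (charDegree Θ)) O) :=
    AddMonoidHom.mrange ((AddMonoidHom.mulRight (∑ h : H, A h)).comp
      (AddMonoidHom.mulLeft (∑ u : P, A u)))
  have hH : ∀ h ∈ H, A h * ∑ h : H, A h = ∑ h : H, A h := fun h hh => by
    rw [Finset.mul_sum]
    exact Fintype.sum_equiv (Equiv.mulLeft ⟨h, hh⟩) _ _ fun u => by simp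
  have hout : ∀ g : G, A (g : G ⧸ H).out * ∑ h : H, A h = A g * ∑ h : H, A h := fun g => by
    obtain ⟨h, e⟩ := QuotientGroup.mk_out_eq_mul H g
    rw [e, map_mul, mul_assoc, hH h h.2]
  obtain ⟨Y, hY⟩ := H35.sum_mem_of_free (P := P) D (fun c : G ⧸ H => A c.out * ∑ h : H, A h)
    (Finset.univ.erase ((1 : G) : G ⧸ H)) (fun c hc u => by
      simp only [Finset.mem_erase, Finset.mem_univ, and_true] at hc ⊢
      intro e
      apply hc
      rw [← inv_smul_smul u c, e]
      exact QuotientGroup.eq.mpr (by simpa using hPH u.2)) (fun c hc u hu => by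
      obtain ⟨g, rfl⟩ := QuotientGroup.mk_surjective c
      simp only [Finset.mem_erase, Finset.mem_univ, and_true] at hc
      refine Subtype.ext (hfree u u.2 g (fun e => hc (QuotientGroup.eq.mpr (by simpa using e))) ?_)
      simpa [mul_assoc] using QuotientGroup.eq.mp hu.symm) (fun c _ => by
      obtain ⟨g, rfl⟩ := QuotientGroup.mk_surjective c
      refine ⟨A g, ?_⟩
      change (∑ u : P, A u) * A g * _ = ∑ u : P, A (((u : G) * g : G) : G ⧸ H).out * _
      simp only [hout, map_mul, Finset.sum_mul])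
  have h1 : ∑ g, A g = (1 + (∑ u : P, A u) * Y) * ∑ h : H, A h := by
    rw [sum_eq_sum_quotient H, ← Finset.add_sum_erase _ _ (Finset.mem_univ ((1 : G) : G ⧸ H)),
      add_mul]
    simp only [map_mul, ← Finset.mul_sum]
    rw [← hY, hout, map_one]
    rfl
  have h2 : IsUnit (1 + (∑ u : P, A u) * Y).det := by
    rw [← IsLocalRing.residue_ne_zero_iff_isUnit, RingHom.map_det, RingHom.mapMatrix_apply,
      Matrix.map_add _ (map_add _), Matrix.map_mul, h0, zero_mul, add_zero, Matrix.map_one _
      (map_zero _) (map_one _), det_one]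
    exact one_ne_zero
  have h3 := rank_sum_eq (H35.mapRep ι A)
  have h4 := rank_sum_eq ((H35.mapRep ι A).comp H.subtype)
  have h5 : ∀ g, (H35.mapRep ι A g).trace = Θ g := fun g => by
    rw [← hA, H35.mapRep_apply, AddMonoidHom.map_trace ι]
  simp only [MonoidHom.comp_apply, h5] at h3 h4
  rw [← h3, ← show _ = classInner (fun h : H => Θ h) fun _ => 1 from h4]
  have h6 := congrArg ι.mapMatrix h1
  rw [map_mul, map_sum, map_sum] at h6
  congr 1
  refine (congrArg Matrix.rank h6).trans (Matrix.rank_mul_eq_right_of_isUnit_det _ _ ?_)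
  rw [← RingHom.map_det]
  exact h2.map ι

theorem classInner_restrict_of_free {G : Type*} [Group G] [Fintype G] {p : ℕ} (hp : p.Prime)
    {P H : Subgroup G} [Fintype H] (hP : IsPGroup p P) (hPH : P ≤ H)
    (hfree : ∀ u ∈ P, ∀ g, g ∉ H → g⁻¹ * u * g ∈ H → u = 1) {χ : G → ℂ} (hχ : IsCharacter G χ)
    (hle : charDegree χ ^ 2 ≤ Nat.card P) :
    classInner χ χ = classInner (fun h : H => χ h) fun h : H => χ h := by
  by_cases h0 : χ = 0
  · subst h0
    exact (classInner_zero_left _).trans (classInner_zero_left _).symm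
  have hΘ := isCharacter_mul hχ (isCharacter_conj hχ)
  have h1 : ∀ {K : Type _} [Group K] [Fintype K] (φ : K → ℂ),
      classInner φ φ = classInner (φ * fun g => conj (φ g)) fun _ => 1 := fun φ => by
    simp [classInner]
  have h2 : classInner (χ * fun g => conj (χ g)) (fun _ => 1) ≠ 0 := by
    rw [← h1]; exact mt classInner_self_eq_zero.mp h0
  have h3 := isCharacter_sub_of_constituent hΘ isIrrCharacter_one h2
  have h4 := classInner_one_restrict_of_free hp hP hPH hfree h3 (by
    have := charDegree_add h3 isCharacter_one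
    rw [sub_add_cancel, charDegree_mul hχ (isCharacter_conj hχ), charDegree_conj hχ,
      charDegree_one] at this
    rw [sq] at hle
    omega)
  rw [classInner_sub_left, classInner_irr_self isIrrCharacter_one] at h4
  rw [h1, h1, ← sub_left_inj (a := 1), h4]
  exact (classInner_sub_left _ _ _).trans (by rw [classInner_irr_self isIrrCharacter_one]; rfl)

end Cfsg.Agent.H88
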